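import Mathlib
import Cfsg.Agent.PSolv.Basic
import Cfsg.Agent.PSolv.Cores
import Cfsg.Agent.FGS4.CyclicSylowStructure

/-!
# Products of two elements of order `p` in a group with cyclic Sylow `p`-subgroups

If `⟨x, y⟩` is `p`-solvable then exactly one `x y ^ j` (`1 ≤ j < p`) is `p`-regular and the others
have order divisible by `p` exactly once.
-/

set_option autoImplicit false
set_option linter.unusedSectionVars false
set_option linter.style.haveILetI false

namespace Cfsg.Agent.CycPairs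

open Subgroup

variable {G : Type*} [Group G] [Finite G] {p : ℕ} [hp : Fact p.Prime]

theorem isCyclic_of_pgroup (hcyc : ∀ S : Sylow p G, IsCyclic (S : Subgroup G)) {U : Subgroup G}
    (hU : IsPGroup p U) : IsCyclic U := by
  obtain ⟨S, hS⟩ := hU.exists_le_sylow
  haveI := hcyc S
  exact isCyclic_of_injective (Subgroup.inclusion hS) (Subgroup.inclusion_injective hS)

theorem mem_zpowers_of_two (hcyc : ∀ S : Sylow p G, IsCyclic (S : Subgroup G)) {O : Subgroup G}
    [O.Normal] (hO : IsPGroup p O) (hO1 : O ≠ ⊥) {v w : G} (hv : orderOf v = p) (hw : orderOf w = p) :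
    w ∈ zpowers v := by
  obtain ⟨z, hzO, hz⟩ : ∃ z ∈ O, orderOf z = p := by
    obtain ⟨a, ha⟩ := hO.card_eq_or_dvd.resolve_left (fun h => hO1 (Subgroup.card_eq_one.1 h))
    obtain ⟨z, hz⟩ := exists_prime_orderOf_dvd_card' (G := O) p ⟨a, ha⟩
    exact ⟨z, z.2, by rw [← hz, Subgroup.orderOf_coe]⟩
  have key : ∀ u : G, orderOf u = p → u ∈ zpowers z := by
    intro u hu
    have hZu : IsPGroup p ↥(zpowers u) := IsPGroup.of_card (n := 1) (by rw [Nat.card_zpowers, hu, pow_one])
    have hU : IsPGroup p ↥(zpowers u ⊔ O) := hZu.to_sup_of_normal_right hO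
    haveI := isCyclic_of_pgroup hcyc hU
    obtain ⟨S, hS⟩ := hU.exists_le_sylow
    refine FGS4.mem_zpowers_of_commute S (hcyc S) (by rw [← hu]; exact pow_orderOf_eq_one u) hz ?_
    letI : CommGroup ↥(zpowers u ⊔ O) := IsCyclic.commGroup
    exact congrArg Subtype.val (mul_comm (⟨u, mem_sup_left (mem_zpowers u)⟩ : ↥(zpowers u ⊔ O))
      ⟨z, mem_sup_right hzO⟩)
  have hvz := key v hv
  have heq : zpowers v = zpowers z :=
    Subgroup.eq_of_le_of_card_ge (zpowers_le.2 hvz) (by rw [Nat.card_zpowers, Nat.card_zpowers, hv, hz])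
  rw [heq]; exact key w hw

/-- Modulo `O_{p'}` all elements of order `p` of a `p`-solvable group are powers of one another. -/
theorem exists_pow_mod_core (hcyc : ∀ S : Sylow p G, IsCyclic (S : Subgroup G))
    (hsol : Cfsg.IsPSolvable p G) {x y : G} (hx : orderOf x = p) (hy : orderOf y = p) :
    ∃ i : ℕ, ¬ p ∣ i ∧
      (QuotientGroup.mk' (Cfsg.pPrimeCore p G) y) = (QuotientGroup.mk' (Cfsg.pPrimeCore p G) x) ^ i ∧
      orderOf (QuotientGroup.mk' (Cfsg.pPrimeCore p G) x) = p := by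
  haveI := Cfsg.pPrimeCore_normal p G
  set N := Cfsg.pPrimeCore p G with hN
  set f := QuotientGroup.mk' N with hf
  have hcop := PSolv.coprime_card_pPrimeCore p G
  have hord : ∀ u : G, orderOf u = p → orderOf (f u) = p := by
    intro u hu
    refine orderOf_eq_prime (by rw [← map_pow, ← hu, pow_orderOf_eq_one, map_one]) fun h => ?_
    rw [hf, QuotientGroup.mk'_apply, QuotientGroup.eq_one_iff] at h
    have h1 : p ∣ Nat.card N := by
      rw [← hu, ← Subgroup.orderOf_mk u h]; exact orderOf_dvd_natCard _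
    exact hp.out.not_dvd_one ((Nat.dvd_gcd h1 dvd_rfl).trans (dvd_of_eq hcop))
  have hcycQ : ∀ S : Sylow p (G ⧸ N), IsCyclic (S : Subgroup (G ⧸ N)) := by
    intro S
    obtain ⟨T⟩ : Nonempty (Sylow p G) := inferInstance
    refine FGS4.isCyclic_sylow (T.mapSurjective (QuotientGroup.mk'_surjective N)) ?_ S
    haveI := hcyc T
    exact isCyclic_of_surjective ((f).subgroupMap (T : Subgroup G)) (f.subgroupMap_surjective _)
  haveI : Nontrivial (G ⧸ N) := ⟨⟨f x, 1, fun h => by
    have := hord x hx; rw [h, orderOf_one] at this; exact hp.out.one_lt.ne this⟩⟩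
  have hQ : Cfsg.pPrimeCore p (G ⧸ N) = ⊥ := PSolv.pPrimeCore_quotient_eq_bot p G
  have hO : Cfsg.pCore p (G ⧸ N) ≠ ⊥ :=
    ((PSolv.pCore_ne_bot_or_pPrimeCore_ne_bot (PSolv.isPSolvable_quotient hsol N)).resolve_right
      (not_not_intro hQ))
  haveI := Cfsg.pCore_normal p (G ⧸ N)
  have hmem : f y ∈ zpowers (f x) :=
    mem_zpowers_of_two hcycQ (PSolv.isPGroup_pCore p (G ⧸ N)) hO (hord x hx) (hord y hy)
  obtain ⟨i, hi⟩ := (mem_powers_iff_mem_zpowers.2 hmem)
  refine ⟨i, fun hd => ?_, hi.symm, hord x hx⟩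
  have h1 : f y = 1 := by
    rw [← hi]; exact orderOf_dvd_iff_pow_eq_one.1 ((hord x hx).symm ▸ hd)
  have := hord y hy
  rw [h1, orderOf_one] at this
  exact hp.out.one_lt.ne this

/-- The basic product fact, inside the group generated by the two elements. -/
theorem product_facts (hcyc : ∀ S : Sylow p G, IsCyclic (S : Subgroup G)) {x y : G}
    (hx : orderOf x = p) (hy : orderOf y = p)
    (hsol : Cfsg.IsPSolvable p ↥(closure ({x, y} : Set G))) :
    ∃ i : ℕ, ¬ p ∣ i ∧ ∀ j : ℕ, (p ∣ orderOf (x * y ^ j) ↔ ¬ p ∣ 1 + i * j) ∧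
      ¬ p * p ∣ orderOf (x * y ^ j) := by
  set H := closure ({x, y} : Set G) with hH
  have hcycH : ∀ S : Sylow p H, IsCyclic (S : Subgroup H) := by
    intro S
    haveI := isCyclic_of_pgroup hcyc (S.2.map H.subtype)
    exact isCyclic_of_surjective _
      ((S : Subgroup H).equivMapOfInjective H.subtype H.subtype_injective).symm.surjective
  let a : H := ⟨x, subset_closure (by simp)⟩
  let b : H := ⟨y, subset_closure (by simp)⟩
  obtain ⟨i, hi, hb, hao⟩ := exists_pow_mod_core hcycH hsol (x := a) (y := b)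
    (by rw [← Subgroup.orderOf_coe]; exact hx) (by rw [← Subgroup.orderOf_coe]; exact hy)
  haveI := Cfsg.pPrimeCore_normal p H
  set N := Cfsg.pPrimeCore p H with hN
  set f := QuotientGroup.mk' N with hf
  refine ⟨i, hi, fun j => ?_⟩
  set g : H := a * b ^ j with hg
  have hgv : ((g : H) : G) = x * y ^ j := by simp [hg, a, b]
  rw [← hgv, Subgroup.orderOf_coe]
  have himg : f g = f a ^ (1 + i * j) := by
    rw [hg, map_mul, map_pow, hb, ← pow_mul, pow_add, pow_one]
  have hker : ∀ w : H, f w = 1 → (orderOf w).Coprime p := fun w hw => by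
    rw [hf, QuotientGroup.mk'_apply, QuotientGroup.eq_one_iff] at hw
    refine Nat.Coprime.coprime_dvd_left ?_ (PSolv.coprime_card_pPrimeCore p H)
    exact Subgroup.orderOf_mk w hw ▸ orderOf_dvd_natCard _
  have hgp : f (g ^ p) = 1 := by
    rw [map_pow, himg, ← pow_mul, mul_comm, pow_mul]
    conv_lhs => rw [show f a ^ p = 1 by rw [← hao]; exact pow_orderOf_eq_one _, one_pow]
  refine ⟨⟨fun hd hc => ?_, fun hc => ?_⟩, fun hd => ?_⟩
  · have h1 : f g = 1 := by
      rw [himg]; exact orderOf_dvd_iff_pow_eq_one.1 (hao.symm ▸ hc)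
    exact hp.out.not_dvd_one ((Nat.dvd_gcd hd dvd_rfl).trans (dvd_of_eq (hker g h1)))
  · have h1 : f g ≠ 1 := fun h => hc (hao ▸ orderOf_dvd_iff_pow_eq_one.2 (himg ▸ h))
    have h2 : orderOf (f g) = p := orderOf_eq_prime (by rw [← map_pow]; exact hgp) h1
    exact h2 ▸ orderOf_map_dvd f g
  · have hdp : p ∣ orderOf g := (dvd_mul_right p p).trans hd
    have h2 := hker _ hgp
    rw [orderOf_pow_of_dvd hp.out.ne_zero hdp] at h2
    have h3 : p ∣ orderOf g / p := (Nat.dvd_div_iff_mul_dvd hdp).2 hd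
    exact hp.out.not_dvd_one ((Nat.dvd_gcd h3 dvd_rfl).trans (dvd_of_eq h2))

open scoped Classical in
/-- For fixed `x`, one in `p - 1` of the elements `y` of order `p` makes `x y` `p`-regular. -/
theorem card_regular_products [Fintype G] (hcyc : ∀ S : Sylow p G, IsCyclic (S : Subgroup G))
    (hsol : ∀ a b : G, orderOf a = p → orderOf b = p →
      Cfsg.IsPSolvable p ↥(closure ({a, b} : Set G)))
    {x : G} (hx : orderOf x = p) :
    (p - 1) * (Finset.univ.filter fun y : G => orderOf y = p ∧ ¬ p ∣ orderOf (x * y)).card =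
      (Finset.univ.filter fun y : G => orderOf y = p).card := by
  set R := Finset.univ.filter fun y : G => orderOf y = p ∧ ¬ p ∣ orderOf (x * y) with hR
  set K := Finset.univ.filter fun y : G => orderOf y = p with hK
  have hop : ∀ y : G, orderOf y = p → ∀ k : ℕ, ¬ p ∣ k → orderOf (y ^ k) = p := by
    intro y hy k hk
    rw [Nat.Coprime.orderOf_pow (by rw [hy]; exact (hp.out.coprime_iff_not_dvd.2 hk))]
    exact hy
  have hnd : ∀ k ∈ Finset.Icc 1 (p - 1), ¬ p ∣ k := fun k hk hd => by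
    obtain ⟨h1, h2⟩ := Finset.mem_Icc.1 hk
    have := Nat.le_of_dvd h1 hd
    have := hp.out.one_lt
    omega
  have himg : (R ×ˢ Finset.Icc 1 (p - 1)).image (fun t => t.1 ^ t.2) = K := by
    ext z
    simp only [Finset.mem_image, Finset.mem_product, hR, hK, Finset.mem_filter, Finset.mem_univ,
      true_and, Prod.exists]
    refine ⟨?_, fun hz => ?_⟩
    · rintro ⟨y, k, ⟨⟨hy, -⟩, hk⟩, rfl⟩
      exact hop y hy k (hnd k hk)
    · obtain ⟨i, hi, hij⟩ := product_facts hcyc hx hz (hsol x z hx hz)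
      have hi0 : (i : ZMod p) ≠ 0 := by rwa [Ne, ZMod.natCast_eq_zero_iff]
      set j := (-(i : ZMod p)⁻¹).val with hj
      have hj1 : p ∣ 1 + i * j := by
        rw [← ZMod.natCast_eq_zero_iff]
        push_cast
        rw [hj, ZMod.natCast_zmod_val, mul_neg, mul_inv_cancel₀ hi0, add_neg_cancel]
      have hjd : ¬ p ∣ j := by
        rw [← ZMod.natCast_eq_zero_iff, hj, ZMod.natCast_zmod_val]
        simp [hi0]
      set k := ((j : ZMod p)⁻¹).val with hk
      have hj0 : (j : ZMod p) ≠ 0 := by rwa [Ne, ZMod.natCast_eq_zero_iff]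
      have hk0 : k ≠ 0 := by
        rw [hk, Ne, ZMod.val_eq_zero]; exact inv_ne_zero hj0
      refine ⟨z ^ j, k, ⟨⟨hop z hz j hjd, fun h => ((hij j).1.1 h) hj1⟩,
        Finset.mem_Icc.2 ⟨Nat.pos_of_ne_zero hk0, Nat.le_sub_one_of_lt (ZMod.val_lt _)⟩⟩, ?_⟩
      rw [← pow_mul]
      conv_rhs => rw [← pow_one z]
      rw [pow_eq_pow_iff_modEq, hz, ← ZMod.natCast_eq_natCast_iff]
      push_cast
      rw [show (k : ZMod p) = (j : ZMod p)⁻¹ from by rw [hk, ZMod.natCast_zmod_val],
        mul_inv_cancel₀ hj0]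
  have hinj : Set.InjOn (fun t : G × ℕ => t.1 ^ t.2) ↑(R ×ˢ Finset.Icc 1 (p - 1)) := by
    rintro ⟨y, k⟩ hyk ⟨y', k'⟩ hyk' (heq : y ^ k = y' ^ k')
    simp only [Finset.coe_product, Set.mem_prod, Finset.mem_coe, hR, Finset.mem_filter,
      Finset.mem_univ, true_and] at hyk hyk'
    obtain ⟨⟨hy, hyr⟩, hk⟩ := hyk
    obtain ⟨⟨hy', hyr'⟩, hk'⟩ := hyk'
    -- `y` is a power of `y'`
    have hzp : y ∈ zpowers y' := by
      have h1 : zpowers (y ^ k) = zpowers y :=
        Subgroup.eq_of_le_of_card_ge (zpowers_le.2 (pow_mem (mem_zpowers y) k))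
          (by rw [Nat.card_zpowers, Nat.card_zpowers, hop y hy k (hnd k hk), hy])
      have h2 : y ^ k ∈ zpowers y' := heq ▸ pow_mem (mem_zpowers y') k'
      exact (zpowers_le.2 h2) (h1.symm ▸ mem_zpowers y)
    obtain ⟨m, rfl⟩ := mem_powers_iff_mem_zpowers.2 hzp
    obtain ⟨i, hi, hij⟩ := product_facts hcyc hx hy' (hsol x y' hx hy')
    have h1 : p ∣ 1 + i * 1 := by
      by_contra h
      exact hyr' (by simpa using (hij 1).1.2 h)
    have h2 : p ∣ 1 + i * m := by
      by_contra h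
      exact hyr ((hij m).1.2 h)
    rw [← ZMod.natCast_eq_zero_iff] at h1 h2
    push_cast at h1 h2
    have hm : (m : ZMod p) = 1 := by
      have hi0 : (i : ZMod p) ≠ 0 := by rwa [Ne, ZMod.natCast_eq_zero_iff]
      apply mul_left_cancel₀ hi0
      linear_combination h2 - h1
    have hym : y' ^ m = y' := by
      conv_rhs => rw [← pow_one y']
      rw [pow_eq_pow_iff_modEq, hy', ← ZMod.natCast_eq_natCast_iff, hm, Nat.cast_one]
    dsimp only at heq ⊢
    rw [hym] at heq ⊢
    rw [pow_eq_pow_iff_modEq, hy'] at heq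
    have hl := Finset.mem_Icc.1 hk
    have hl' := Finset.mem_Icc.1 hk'
    have : k = k' := Nat.ModEq.eq_of_lt_of_lt heq (by omega) (by omega)
    rw [this]
  rw [← himg, Finset.card_image_of_injOn hinj, Finset.card_product, Nat.card_Icc]
  rw [mul_comm]
  congr 1

end Cfsg.Agent.CycPairs
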