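import Mathlib
import Cfsg.Agent.FGS4.CyclicSylowStructure
import Cfsg.Agent.CycPairs.Products

/-!
# Elements whose order is divisible by `p` exactly once

In a group with cyclic Sylow `p`-subgroup and `x` of order `p`, these are the conjugates of `u c`
with `1 ≠ u ∈ ⟨x⟩` and `c` a `p`-regular element of `C(x)`.
-/

set_option autoImplicit false
set_option linter.unusedSectionVars false
set_option linter.style.haveILetI false

namespace Cfsg.Agent.CycPairs

open Subgroup
open scoped Pointwise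

variable {G : Type*} [Group G] [Fintype G] {p : ℕ} [hp : Fact p.Prime]

/-- The `p`-regular part of the centraliser of `x`. -/
theorem exists_regular_part (hcyc : ∀ S : Sylow p G, IsCyclic (S : Subgroup G)) {x : G}
    (hx : orderOf x = p) (P : Sylow p G) (hxP : x ∈ (P : Subgroup G)) :
    ∃ W : Subgroup G, (∀ w, w ∈ W ↔ w ∈ centralizer ({x} : Set G) ∧ ¬ p ∣ orderOf w) ∧
      (Nat.card W).Coprime p ∧
      Nat.card (centralizer ({x} : Set G)) = Nat.card W * Nat.card (P : Subgroup G) := by
  set C := centralizer ({x} : Set G) with hC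
  have hxC : x ∈ C := mem_centralizer_singleton_iff.2 rfl
  haveI := hcyc P
  have hPC : (P : Subgroup G) ≤ C := fun q hq => by
    letI : CommGroup ↥(P : Subgroup G) := IsCyclic.commGroup
    exact mem_centralizer_singleton_iff.2
      (congrArg Subtype.val (mul_comm (⟨q, hq⟩ : ↥(P : Subgroup G)) ⟨x, hxP⟩))
  set PC : Sylow p C := P.subtype hPC
  have hcPC : IsCyclic (PC : Subgroup C) :=
    isCyclic_of_surjective _ (Subgroup.subgroupOfEquivOfLe hPC).symm.surjective
  obtain ⟨Q, V, hVn, hVc⟩ := FGSev.hasNormalPComplement_of_cyclic_sylow_central PC hcPC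
    (x := ⟨x, hxC⟩) hxP (fun h => by
      have h' : x = 1 := congrArg Subtype.val h
      rw [h', orderOf_one] at hx; exact hp.out.one_lt.ne hx)
    (mem_center_iff.2 fun c => Subtype.ext (mem_centralizer_singleton_iff.1 c.2))
  haveI := hVn
  have hQP : Nat.card (Q : Subgroup C) = Nat.card (P : Subgroup G) := by
    rw [Nat.card_congr (Q.equiv PC).toEquiv]
    exact Nat.card_congr (Subgroup.subgroupOfEquivOfLe hPC).toEquiv
  have hidx : V.index = Nat.card (Q : Subgroup C) := hVc.symm.index_eq_card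
  have hmul := V.card_mul_index
  have hVp : (Nat.card V).Coprime p := by
    rw [Nat.coprime_comm, hp.out.coprime_iff_not_dvd]
    intro hd
    apply Q.not_dvd_index
    rw [hVc.index_eq_card]
    exact hd
  refine ⟨V.map C.subtype, fun w => ⟨?_, ?_⟩, ?_, ?_⟩
  · rintro ⟨v, hv, rfl⟩
    refine ⟨v.2, fun hd => ?_⟩
    have h1 : orderOf v ∣ Nat.card V := orderOf_mk v hv ▸ orderOf_dvd_natCard _
    rw [coe_subtype, orderOf_coe] at hd
    exact hp.out.not_dvd_one ((Nat.dvd_gcd (hd.trans h1) dvd_rfl).trans (dvd_of_eq hVp))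
  · rintro ⟨hwC, hwp⟩
    obtain ⟨n, hn⟩ := Q.2.exists_card_eq
    have h1 := V.pow_index_mem ⟨w, hwC⟩
    rw [hidx, hn] at h1
    obtain ⟨m, hm⟩ := exists_pow_eq_self_of_coprime (x := (⟨w, hwC⟩ : C)) (n := p ^ n)
      (by rw [← orderOf_coe]; exact (hp.out.coprime_iff_not_dvd.2 hwp).pow_left n)
    exact ⟨⟨w, hwC⟩, hm ▸ V.pow_mem h1 m, rfl⟩
  · rw [card_map_of_injective C.subtype_injective]; exact hVp
  · rw [card_map_of_injective C.subtype_injective, ← hQP, ← hidx, hmul]

variable {x : G} {W : Subgroup G}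

/-- The generators of `⟨x⟩`. -/
noncomputable def genSet (x : G) : Finset G := by
  classical exact Finset.univ.filter fun u => u ∈ zpowers x ∧ u ≠ 1

theorem mem_genSet {u : G} : u ∈ genSet x ↔ u ∈ zpowers x ∧ u ≠ 1 := by
  simp [genSet]

theorem genSet_order (hx : orderOf x = p) {u : G} (hu : u ∈ genSet x) :
    orderOf u = p ∧ zpowers u = zpowers x := by
  obtain ⟨hu1, hu2⟩ := mem_genSet.1 hu
  have hd : orderOf u ∣ p := by
    rw [← hx, ← Nat.card_zpowers x, ← orderOf_mk u hu1]
    exact orderOf_dvd_natCard _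
  have ho : orderOf u = p := ((Nat.dvd_prime hp.out).1 hd).resolve_left (by simpa using hu2)
  exact ⟨ho, eq_of_le_of_card_ge (zpowers_le.2 hu1)
    (by rw [Nat.card_zpowers, Nat.card_zpowers, ho, hx])⟩

theorem card_genSet (hx : orderOf x = p) : (genSet x).card = p - 1 := by
  classical
  have h : genSet x = (Finset.univ.filter fun u => u ∈ zpowers x).erase 1 := by
    ext u; simp [mem_genSet, and_comm]
  rw [h, Finset.card_erase_of_mem (by simp)]
  congr 1
  rw [← hx, ← Nat.card_zpowers, Nat.card_eq_fintype_card, Fintype.card_subtype]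

theorem centralizer_genSet (hx : orderOf x = p) {u : G} (hu : u ∈ genSet x) :
    centralizer ({u} : Set G) = centralizer ({x} : Set G) := by
  have h := (genSet_order hx hu).2
  ext c
  simp only [mem_centralizer_singleton_iff]
  constructor
  · intro hc
    obtain ⟨k, hk⟩ := mem_zpowers_iff.1 (h.symm ▸ mem_zpowers x : x ∈ zpowers u)
    rw [← hk]; exact (Commute.zpow_right (hc : Commute c u) k).eq
  · intro hc
    obtain ⟨k, hk⟩ := mem_zpowers_iff.1 (mem_genSet.1 hu).1
    rw [← hk]; exact (Commute.zpow_right (hc : Commute c x) k).eq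

section

variable (hcyc : ∀ S : Sylow p G, IsCyclic (S : Subgroup G)) (hx : orderOf x = p)
  (hW : ∀ w, w ∈ W ↔ w ∈ centralizer ({x} : Set G) ∧ ¬ p ∣ orderOf w)
  (hWp : (Nat.card W).Coprime p)

include hx hW hWp in
theorem orderOf_mul_regular {u c : G} (hu : u ∈ genSet x) (hc : c ∈ W) :
    orderOf (u * c) = p * orderOf c := by
  have hcu : Commute u c := by
    have := ((hW c).1 hc).1
    rw [← centralizer_genSet hx hu, mem_centralizer_singleton_iff] at this
    exact this.symm
  rw [hcu.orderOf_mul_eq_mul_orderOf_of_coprime, (genSet_order hx hu).1]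
  rw [(genSet_order hx hu).1, hp.out.coprime_iff_not_dvd]
  exact ((hW c).1 hc).2

include hcyc hx hW hWp in
open scoped Classical in
theorem sum_section (F : G → ℂ) :
    (Nat.card (normalizer (zpowers x : Set G)) : ℂ) *
        ∑ g ∈ Finset.univ.filter (fun g : G => p ∣ orderOf g ∧ ¬ p * p ∣ orderOf g), F g =
      ∑ h : G, ∑ u ∈ genSet x, ∑ c ∈ Finset.univ.filter (fun c => c ∈ W), F (h * (u * c) * h⁻¹) := by
  set N := normalizer (zpowers x : Set G) with hN
  set S := Finset.univ.filter (fun g : G => p ∣ orderOf g ∧ ¬ p * p ∣ orderOf g) with hS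
  set Ws := Finset.univ.filter (fun c => c ∈ W) with hWs
  set T := (Finset.univ : Finset G) ×ˢ (genSet x ×ˢ Ws) with hT
  set φ : G × G × G → G := fun t => t.1 * (t.2.1 * t.2.2) * t.1⁻¹ with hφ
  have hmem : ∀ t, t ∈ T ↔ t.2.1 ∈ genSet x ∧ t.2.2 ∈ W := fun t => by simp [hT, hWs]
  have hmaps : ∀ t ∈ T, φ t ∈ S := by
    intro t ht
    obtain ⟨hu, hc⟩ := (hmem t).1 ht
    have ho : orderOf (φ t) = p * orderOf t.2.2 := by
      rw [hφ, ← orderOf_mul_regular hx hW hWp hu hc]
      exact (MulAut.conj t.1).orderOf_eq _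
    simp only [hS, Finset.mem_filter, Finset.mem_univ, true_and, ho]
    exact ⟨dvd_mul_right p _, fun h => ((hW _).1 hc).2 (Nat.dvd_of_mul_dvd_mul_left hp.out.pos h)⟩
  have hfib : ∀ g ∈ S, (T.filter fun t => φ t = g).card = Nat.card N := by
    intro g hg
    simp only [hS, Finset.mem_filter, Finset.mem_univ, true_and] at hg
    obtain ⟨hd, hd2⟩ := hg
    -- one element of the fibre
    obtain ⟨h0, u0, c0, hu0, hc0, hg0⟩ : ∃ h u c, u ∈ genSet x ∧ c ∈ W ∧ h * (u * c) * h⁻¹ = g := by
      obtain ⟨m, hm⟩ := hd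
      have hmp : ¬ p ∣ m := fun h => hd2 (hm ▸ Nat.mul_dvd_mul_left p h)
      have hm0 : m ≠ 0 := by
        rintro rfl; exact hmp (dvd_zero p)
      set a := (m : ZMod p)⁻¹.val
      have hma : m * a ≡ 1 [MOD p] := by
        rw [← ZMod.natCast_eq_natCast_iff]
        push_cast
        rw [ZMod.natCast_zmod_val, mul_inv_cancel₀ (by rwa [Ne, ZMod.natCast_eq_zero_iff])]
      set v := g ^ (m * a) with hv
      have hvo : orderOf v = p := by
        refine orderOf_eq_prime ?_ fun h => ?_
        · rw [hv, ← pow_mul, mul_comm (m * a), ← mul_assoc, ← hm, pow_mul, pow_orderOf_eq_one, one_pow]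
        · have h1 : orderOf g ∣ m * a := orderOf_dvd_of_pow_eq_one h
          rw [hm] at h1
          have h2 : p ∣ m * a := (dvd_mul_right p m).trans h1
          rw [← Nat.modEq_zero_iff_dvd] at h2
          exact hp.out.one_lt.ne' (Nat.eq_one_of_dvd_one
            ((Nat.modEq_zero_iff_dvd).1 (hma.symm.trans h2)))
      obtain ⟨S1, hS1⟩ := (IsPGroup.of_card (n := 1)
        (by rw [Nat.card_zpowers, hvo, pow_one]) : IsPGroup p ↥(zpowers v)).exists_le_sylow
      obtain ⟨S2, hS2⟩ := (IsPGroup.of_card (n := 1)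
        (by rw [Nat.card_zpowers, hx, pow_one]) : IsPGroup p ↥(zpowers x)).exists_le_sylow
      obtain ⟨k, hk⟩ := MulAction.exists_smul_eq G S1 S2
      have hv2 : k * v * k⁻¹ ∈ (S2 : Subgroup G) := by
        rw [← hk]
        show k * v * k⁻¹ ∈ (MulAut.conj k • (S1 : Subgroup G))
        exact smul_mem_pointwise_smul v (MulAut.conj k) _ (hS1 (mem_zpowers v))
      have hvo' : orderOf (k * v * k⁻¹) = p := ((MulAut.conj k).orderOf_eq v).trans hvo
      have hcom : Commute (k * v * k⁻¹) x := by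
        haveI := hcyc S2
        letI : CommGroup ↥(S2 : Subgroup G) := IsCyclic.commGroup
        exact congrArg Subtype.val (mul_comm (⟨_, hv2⟩ : ↥(S2 : Subgroup G)) ⟨x, hS2 (mem_zpowers x)⟩)
      have hu : k * v * k⁻¹ ∈ genSet x := mem_genSet.2
        ⟨FGS4.mem_zpowers_of_commute S2 (hcyc S2)
          (by conv_lhs => rw [← hvo']; exact pow_orderOf_eq_one _) hx hcom,
          fun h => by rw [h, orderOf_one] at hvo'; exact hp.out.one_lt.ne hvo'⟩
      set w := v⁻¹ * g with hw
      have hvg : Commute v g := (Commute.refl g).pow_left _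
      have hwm : w ^ m = 1 := by
        rw [hw, hvg.inv_left.mul_pow, inv_pow, hv, ← pow_mul, inv_mul_eq_one, pow_eq_pow_iff_modEq]
        rw [hm]
        have := (hma.mul_right' m)
        rw [one_mul] at this
        exact this
      have hwc : k * w * k⁻¹ ∈ W := by
        rw [hW, ← centralizer_genSet hx hu, mem_centralizer_singleton_iff]
        refine ⟨?_, fun h => hmp ?_⟩
        · have : Commute w v := (Commute.refl v).inv_left.mul_left hvg.symm
          exact (Commute.conj_iff k).2 this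
        · have : orderOf (k * w * k⁻¹) = orderOf w := (MulAut.conj k).orderOf_eq w
          exact (this ▸ h).trans (orderOf_dvd_of_pow_eq_one hwm)
      refine ⟨k⁻¹, _, _, hu, hwc, ?_⟩
      rw [hw]; group
    -- the whole fibre
    have hcW : ∀ n ∈ N, ∀ c ∈ W, n * c * n⁻¹ ∈ W := by
      intro n hn c hc
      obtain ⟨h1, h2⟩ := (hW c).1 hc
      refine (hW _).2 ⟨?_, fun h => h2 ?_⟩
      · have hxn : n⁻¹ * x * n ∈ zpowers x := by
          have := (mem_normalizer_iff''.1 hn x).1 (mem_zpowers x)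
          simpa [mul_assoc] using this
        rw [mem_centralizer_singleton_iff] at h1 ⊢
        obtain ⟨k, hk⟩ := mem_zpowers_iff.1 hxn
        have h3 : Commute c (n⁻¹ * x * n) := hk ▸ Commute.zpow_right h1 k
        have h4 := (Commute.conj_iff n).2 h3
        rw [show n * (n⁻¹ * x * n) * n⁻¹ = x by group] at h4
        exact h4
      · rwa [show orderOf (n * c * n⁻¹) = orderOf c from (MulAut.conj n).orderOf_eq c] at h
    have huN : ∀ n ∈ N, ∀ u ∈ genSet x, n * u * n⁻¹ ∈ genSet x := by
      intro n hn u hu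
      obtain ⟨h1, h2⟩ := mem_genSet.1 hu
      exact mem_genSet.2 ⟨(mem_normalizer_iff.1 hn u).1 h1, by simpa [mul_inv_eq_one] using h2⟩
    have hnorm : ∀ n u c : G, u ∈ genSet x → c ∈ W → n * (u0 * c0) * n⁻¹ = u * c → n ∈ N := by
      intro n u c hu hc he
      set K := Nat.card W
      have key : ∀ u c : G, u ∈ genSet x → c ∈ W → (u * c) ^ K = u ^ K := by
        intro u c hu hc
        have hcu : Commute u c := by
          have := ((hW c).1 hc).1
          rw [← centralizer_genSet hx hu, mem_centralizer_singleton_iff] at this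
          exact this.symm
        have hcK : c ^ K = 1 := orderOf_dvd_iff_pow_eq_one.1
          (by rw [← orderOf_mk c hc]; exact orderOf_dvd_natCard _)
        rw [hcu.mul_pow, hcK, mul_one]
      have hgen : ∀ u ∈ genSet x, zpowers (u ^ K) = zpowers x := fun u hu => by
        obtain ⟨ho, hz⟩ := genSet_order hx hu
        rw [← hz]
        refine eq_of_le_of_card_ge (zpowers_le.2 (pow_mem (mem_zpowers u) K)) (le_of_eq ?_)
        rw [Nat.card_zpowers, Nat.card_zpowers, Nat.Coprime.orderOf_pow (by rw [ho]; exact hWp.symm)]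
      have hK : n * u0 ^ K * n⁻¹ = u ^ K := by
        rw [← key u0 c0 hu0 hc0, ← key _ _ hu hc, ← he, conj_pow]
      have hmap : (zpowers (u0 ^ K)).map (MulAut.conj n).toMonoidHom = zpowers (u ^ K) := by
        rw [MonoidHom.map_zpowers, MulEquiv.coe_toMonoidHom, MulAut.conj_apply, hK]
      rw [hgen u0 hu0, hgen u hu] at hmap
      exact mem_normalizer_iff_map_conj_eq.2 hmap
    rw [Nat.card_eq_fintype_card, Fintype.card_subtype]
    refine Finset.card_bij' (fun t _ => t.1⁻¹ * h0)
      (fun n _ => (h0 * n⁻¹, n * u0 * n⁻¹, n * c0 * n⁻¹)) ?_ ?_ ?_ ?_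
    · intro t ht
      obtain ⟨ht, htg⟩ := Finset.mem_filter.1 ht
      obtain ⟨hu, hc⟩ := (hmem t).1 ht
      refine Finset.mem_filter.2 ⟨Finset.mem_univ _, ?_⟩
      set n := t.1⁻¹ * h0 with hn
      have he : n * (u0 * c0) * n⁻¹ = t.2.1 * t.2.2 := by
        simp only [hφ] at htg
        rw [show t.2.1 * t.2.2 = t.1⁻¹ * (t.1 * (t.2.1 * t.2.2) * t.1⁻¹) * t.1 by group, htg, ← hg0, hn]
        group
      exact hnorm n _ _ hu hc he
    · intro n hn
      have hn' : n ∈ N := (Finset.mem_filter.1 hn).2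
      refine Finset.mem_filter.2 ⟨(hmem _).2 ⟨huN n hn' u0 hu0, hcW n hn' c0 hc0⟩, ?_⟩
      simp only [hφ]; rw [← hg0]; group
    · intro t ht
      obtain ⟨ht, htg⟩ := Finset.mem_filter.1 ht
      obtain ⟨hu, hc⟩ := (hmem t).1 ht
      simp only [hφ] at htg
      have he : t.1⁻¹ * h0 * (u0 * c0) * (t.1⁻¹ * h0)⁻¹ = t.2.1 * t.2.2 := by
        rw [show t.2.1 * t.2.2 = t.1⁻¹ * (t.1 * (t.2.1 * t.2.2) * t.1⁻¹) * t.1 by group, htg, ← hg0]
        group
      refine Prod.ext (by group) ?_
      -- components of a product `u c` are determined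
      have huniq : ∀ u u' c c' : G, u ∈ genSet x → u' ∈ zpowers x → c ∈ W → c' ∈ W →
          u' * c' = u * c → u' = u := by
        intro u u' c c' hu hu' hc hc' h
        have h1 : u⁻¹ * u' ∈ zpowers x := mul_mem (inv_mem (mem_genSet.1 hu).1) hu'
        have h2 : u⁻¹ * u' ∈ W := by
          rw [show u⁻¹ * u' = c * c'⁻¹ by
            rw [inv_mul_eq_iff_eq_mul, ← mul_assoc, ← h, mul_inv_cancel_right]]
          exact mul_mem hc (inv_mem hc')
        have h3 := orderOf_dvd_natCard (⟨_, h1⟩ : zpowers x)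
        rw [orderOf_mk, Nat.card_zpowers, hx] at h3
        have h4 := orderOf_dvd_natCard (⟨_, h2⟩ : W)
        rw [orderOf_mk] at h4
        have h5 : orderOf (u⁻¹ * u') = 1 :=
          Nat.eq_one_of_dvd_one ((Nat.dvd_gcd h4 h3).trans (dvd_of_eq hWp))
        exact (inv_mul_eq_one.1 (orderOf_eq_one_iff.1 h5)).symm
      -- the conjugating element normalises `⟨x⟩`
      set n := t.1⁻¹ * h0 with hn
      have he' : (n * u0 * n⁻¹) * (n * c0 * n⁻¹) = t.2.1 * t.2.2 := by rw [← he]; group
      have hnN : n ∈ N := hnorm n _ _ hu hc he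
      have h1 := huniq _ _ _ _ hu (mem_genSet.1 (huN n hnN u0 hu0)).1 hc (hcW n hnN c0 hc0) he'
      refine Prod.ext h1 ?_
      show n * c0 * n⁻¹ = t.2.2
      rw [h1] at he'
      exact mul_left_cancel he'
    · intro n hn
      group
  rw [Finset.mul_sum]
  have h1 : ∑ t ∈ T, F (φ t) = ∑ h : G, ∑ u ∈ genSet x, ∑ c ∈ Ws, F (h * (u * c) * h⁻¹) := by
    rw [hT, Finset.sum_product]
    refine Finset.sum_congr rfl fun h _ => ?_
    rw [Finset.sum_product]
  rw [← h1, ← Finset.sum_fiberwise_of_maps_to hmaps]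
  refine Finset.sum_congr rfl fun g hg => ?_
  rw [Finset.sum_congr rfl (g := fun _ => F g) (fun t ht => by rw [(Finset.mem_filter.1 ht).2]),
    Finset.sum_const, hfib g hg, nsmul_eq_mul]

end

end Cfsg.Agent.CycPairs
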