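import Mathlib
import Cfsg.Agent.CycPairs.Section
import Cfsg.Agent.Invol.SectionOrth
import Cfsg.Agent.BlkChar.PModular
import Cfsg.Agent.BlocksChar.ClassProd
import Cfsg.Agent.Char.Orthogonality
import Cfsg.Agent.Char.Virtual
import Cfsg.Agent.Char.Kernel

/-!
# The three identities for the integers attached to the sections of order `p`
-/

set_option autoImplicit false
set_option linter.unusedSectionVars false
set_option linter.style.haveILetI false

open scoped ComplexConjugate

namespace Cfsg.Agent.CycPairs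

open Subgroup Cfsg

universe u

variable {G : Type u} [Group G] [Fintype G] {p : ℕ} [hp : Fact p.Prime] {x : G} {W : Subgroup G}
  (hcyc : ∀ S : Sylow p G, IsCyclic (S : Subgroup G)) (hx : orderOf x = p)
  (hW : ∀ w, w ∈ W ↔ w ∈ centralizer ({x} : Set G) ∧ ¬ p ∣ orderOf w)
  (hWp : (Nat.card W).Coprime p)

include hx in
theorem exists_int_sum_genSet (χ : IrrCharacter G) :
    ∃ s : ℤ, ∑ u ∈ genSet x, (χ : G → ℂ) u = s := by
  classical
  haveI : Fintype (zpowers x) := Fintype.ofFinite _
  have hch : IsCharacter (zpowers x) (fun w : zpowers x => (χ : G → ℂ) w) :=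
    Char.isCharacter_restrict (Char.isCharacter_of_irr χ.2) _
  obtain ⟨n, hn⟩ := Char.isCharacter_classInner_nat hch (Char.trivialIrr (zpowers x))
  obtain ⟨d, hd⟩ : ∃ d : ℕ, (χ : G → ℂ) 1 = d := by
    obtain ⟨m, ρ, -, hρ⟩ := χ.2
    exact ⟨m, by rw [← hρ, ρ.char_one, Module.finrank_fin_fun]⟩
  refine ⟨(p : ℤ) * n - d, ?_⟩
  have hsum : ∑ w : zpowers x, (χ : G → ℂ) w = (p : ℂ) * n := by
    rw [← hn, classInner, Nat.card_zpowers, hx, ← mul_assoc,
      mul_inv_cancel₀ (Nat.cast_ne_zero.2 hp.out.ne_zero), one_mul]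
    exact Finset.sum_congr rfl fun w _ => by
      show _ = _ * conj (1 : ℂ)
      rw [map_one, mul_one]
  have hgen : genSet x = (Finset.univ.filter fun u => u ∈ zpowers x).erase 1 := by
    ext u; simp [mem_genSet, and_comm]
  rw [hgen, Finset.sum_erase_eq_sub (by simp)]
  rw [Finset.sum_subtype (p := fun u => u ∈ zpowers x) _ (fun u => by simp) fun u => (χ : G → ℂ) u]
  rw [hsum, hd]
  push_cast
  ring

include hx hW hWp in
open scoped Classical in
theorem exists_section_value (χ : IrrCharacter G) :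
    ∃ t : ℤ, (∑ u ∈ genSet x, ∑ c ∈ Finset.univ.filter (fun c => c ∈ W), (χ : G → ℂ) (u * c)
        = (Nat.card W : ℂ) * t) ∧ (t = 0 ∨ (t : ℂ) = ∑ u ∈ genSet x, (χ : G → ℂ) u) := by
  obtain ⟨M, hM⟩ := BlkChar.exists_isPModular p hp.out
  obtain ⟨s, hs⟩ := exists_int_sum_genSet hx χ
  have hcen : ∀ u ∈ genSet x, ∀ c ∈ centralizer ({u} : Set G), ∀ v ∈ W, c * v * c⁻¹ ∈ W := by
    intro u hu c hc v hv
    rw [centralizer_genSet hx hu] at hc
    refine (hW _).2 ⟨mul_mem (mul_mem hc ((hW v).1 hv).1) (inv_mem hc), fun h => ((hW v).1 hv).2 ?_⟩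
    rwa [show orderOf (c * v * c⁻¹) = orderOf v from (MulAut.conj c).orderOf_eq v] at h
  haveI : M.IsPrime := hM.2.1.isPrime
  by_cases hχ : χ ∈ principalBlock M G
  · refine ⟨s, ?_, Or.inr hs.symm⟩
    rw [← hs, Finset.mul_sum]
    refine Finset.sum_congr rfl fun u hu => ?_
    have hle : W ≤ centralizer ({u} : Set G) := fun v hv => by
      rw [centralizer_genSet hx hu]; exact ((hW v).1 hv).1
    have hval : ∀ c ∈ Finset.univ.filter (fun c => c ∈ W), (χ : G → ℂ) (u * c) = (χ : G → ℂ) u :=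
      fun c hc => Brauer.principalBlock_apply_mul hM (k := 1) (by rw [(genSet_order hx hu).1, pow_one])
        W hle (hcen u hu) ((hp.out.coprime_iff_not_dvd).1 hWp.symm) hχ
        (Finset.mem_filter.1 hc).2
    rw [Finset.sum_congr rfl hval, Finset.sum_const, nsmul_eq_mul, Nat.card_eq_fintype_card,
      Fintype.card_subtype]
  · refine ⟨0, ?_, Or.inl rfl⟩
    rw [Int.cast_zero, mul_zero]
    refine Finset.sum_eq_zero fun u hu => ?_
    set C := centralizer ({u} : Set G) with hC
    haveI : Fintype C := Fintype.ofFinite _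
    have hb : Char.trivialIrr C ∈ principalBlock M C := by
      rw [Brauer.principalBlock_eq_blockOf_trivial]; exact Block.mem_blockOf_self _
    have h := Invol.sectionOrth hM (k := 1) (by rw [(genSet_order hx hu).1, pow_one]) C hC χ
      (Char.trivialIrr C) (fun h => hχ (h.2 hb))
    rw [Finset.sum_ite, Finset.sum_const_zero, zero_add] at h
    rw [← h]
    refine Finset.sum_bij (fun c hc => (⟨c, by
        rw [hC, centralizer_genSet hx hu]; exact ((hW c).1 (Finset.mem_filter.1 hc).2).1⟩ : C)) ?_ ?_ ?_ ?_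
    · intro c hc
      refine Finset.mem_filter.2 ⟨Finset.mem_univ _, ?_⟩
      rw [← orderOf_coe]
      exact ((hW c).1 (Finset.mem_filter.1 hc).2).2
    · intro c _ d _ he; exact congrArg Subtype.val he
    · intro v hv
      refine ⟨v, Finset.mem_filter.2 ⟨Finset.mem_univ _, (hW _).2 ⟨?_, ?_⟩⟩, rfl⟩
      · rw [← centralizer_genSet hx hu]; exact v.2
      · rw [orderOf_coe]; exact (Finset.mem_filter.1 hv).2
    · intro c _
      show _ = _ * conj (1 : ℂ)
      rw [map_one, mul_one]

include hcyc hx hW hWp in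
open scoped Classical in
/-- The identities. `b = |N(⟨x⟩)|`, `a = |W|`. -/
theorem identities
    (hsol : ∀ a b : G, orderOf a = p → orderOf b = p →
      Cfsg.IsPSolvable p ↥(closure ({a, b} : Set G))) :
    ∃ t : IrrCharacter G → ℤ,
      (∀ χ : IrrCharacter G, (∑ u ∈ genSet x, ∑ c ∈ Finset.univ.filter (fun c => c ∈ W), (χ : G → ℂ) (u * c)
          = (Nat.card W : ℂ) * t χ) ∧ (t χ = 0 ∨ (t χ : ℂ) = ∑ u ∈ genSet x, (χ : G → ℂ) u)) ∧
      (∑ χ : IrrCharacter G, (t χ : ℂ) * (χ : G → ℂ) 1 = 0) ∧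
      ((Nat.card W : ℂ) * ∑ χ : IrrCharacter G, (t χ : ℂ) ^ 2 =
          ((p : ℂ) - 1) * Nat.card (normalizer (zpowers x : Set G))) ∧
      ((Nat.card W : ℂ) * ∑ χ : IrrCharacter G, (t χ : ℂ) ^ 3 / (χ : G → ℂ) 1 =
          ((p : ℂ) - 1) * ((p : ℂ) - 2) * Nat.card (normalizer (zpowers x : Set G))) := by
  choose t ht1 ht2 using fun χ : IrrCharacter G => exists_section_value hx hW hWp χ
  refine ⟨t, fun χ => ⟨ht1 χ, ht2 χ⟩, ?_⟩
  set b : ℂ := (Nat.card (normalizer (zpowers x : Set G)) : ℂ) with hb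
  set a : ℂ := (Nat.card W : ℂ) with ha
  set g : ℂ := (Nat.card G : ℂ) with hg
  have hb0 : b ≠ 0 := Nat.cast_ne_zero.2 Nat.card_pos.ne'
  have ha0 : a ≠ 0 := Nat.cast_ne_zero.2 Nat.card_pos.ne'
  have hg0 : g ≠ 0 := Nat.cast_ne_zero.2 Nat.card_pos.ne'
  have hgF : g = ∑ _h : G, (1 : ℂ) := by simp [hg]
  have hWc : ((Finset.univ.filter fun c => c ∈ W).card : ℂ) = a := by
    rw [ha, Nat.card_eq_fintype_card, Fintype.card_subtype]
  have hgc : ((genSet x).card : ℂ) = (p : ℂ) - 1 := by
    rw [card_genSet hx, Nat.cast_sub hp.out.one_le, Nat.cast_one]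
  set S := Finset.univ.filter (fun g : G => p ∣ orderOf g ∧ ¬ p * p ∣ orderOf g) with hS
  set K := Finset.univ.filter (fun y : G => orderOf y = p) with hK
  have hsec := fun F : G → ℂ => sum_section hcyc hx hW hWp F
  -- counting
  have hKS : K = S.filter fun y => orderOf y = p := by
    ext y
    simp only [hK, hS, Finset.mem_filter, Finset.mem_univ, true_and]
    refine ⟨fun h => ⟨⟨dvd_of_eq h.symm, fun hd => ?_⟩, h⟩, fun h => h.2⟩
    rw [h] at hd
    have := Nat.le_of_dvd hp.out.pos hd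
    have := hp.out.two_le
    nlinarith
  have hsingle : ∀ (h u c : G), u ∈ genSet x → c ∈ W → (orderOf (h * (u * c) * h⁻¹) = p ↔ c = 1) := by
    intro h u c hu hc
    rw [show orderOf (h * (u * c) * h⁻¹) = orderOf (u * c) from (MulAut.conj h).orderOf_eq _,
      orderOf_mul_regular hx hW hWp hu hc]
    rw [← orderOf_eq_one_iff]
    exact ⟨fun he => by
      have := hp.out.pos
      exact (Nat.mul_eq_left (by omega)).1 he, fun he => by rw [he, mul_one]⟩
  have hKsum : ∀ F : G → ℂ, b * ∑ y ∈ K, F y = ∑ h : G, ∑ u ∈ genSet x, F (h * u * h⁻¹) := by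
    intro F
    rw [hKS, Finset.sum_filter, hb, hS, hsec (fun y => if orderOf y = p then F y else 0)]
    refine Finset.sum_congr rfl fun h _ => Finset.sum_congr rfl fun u hu => ?_
    rw [Finset.sum_eq_single 1]
    · rw [if_pos ((hsingle h u 1 hu W.one_mem).2 rfl), mul_one]
    · intro c hc hc1
      exact if_neg fun he => hc1 ((hsingle h u c hu (Finset.mem_filter.1 hc).2).1 he)
    · intro h1; exact absurd (Finset.mem_filter.2 ⟨Finset.mem_univ _, W.one_mem⟩) h1
  have hKcard : b * (K.card : ℂ) = g * ((p : ℂ) - 1) := by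
    have := hKsum fun _ => 1
    simp only [Finset.sum_const, nsmul_eq_mul, mul_one] at this
    rw [this, hgc, Finset.card_univ, hg, Nat.card_eq_fintype_card]
  have hScard : b * (S.card : ℂ) = g * (((p : ℂ) - 1) * a) := by
    have := hsec fun _ => 1
    simp only [Finset.sum_const, nsmul_eq_mul, mul_one] at this
    rw [hb, hS, this, hgc, hWc, Finset.card_univ, hg, Nat.card_eq_fintype_card]
  -- the class function
  set f : G → ℂ := fun y => if y ∈ S then 1 else 0 with hf
  have hfc : IsClassFunction G f := fun y h => by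
    simp only [hf, hS, Finset.mem_filter, Finset.mem_univ, true_and]
    rw [show orderOf (h * y * h⁻¹) = orderOf y from (MulAut.conj h).orderOf_eq y]
  have hcoef : ∀ χ : IrrCharacter G, classInner f (χ : G → ℂ) = a * t χ / b := by
    intro χ
    have h1 : ∑ y : G, f y * conj ((χ : G → ℂ) y) = ∑ y ∈ S, conj ((χ : G → ℂ) y) := by
      simp only [hf, ite_mul, one_mul, zero_mul, Finset.sum_ite_mem, Finset.univ_inter]
    have h2 := hsec fun y => conj ((χ : G → ℂ) y)
    rw [← hb, ← hS] at h2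
    have h3 : ∀ h : G, ∑ u ∈ genSet x, ∑ c ∈ Finset.univ.filter (fun c => c ∈ W),
        conj ((χ : G → ℂ) (h * (u * c) * h⁻¹)) = a * t χ := by
      intro h
      simp only [Char.irr_isClassFunction χ.2 _ h]
      simp only [← map_sum, ht1 χ, map_mul, ha, map_natCast, map_intCast]
    rw [Finset.sum_congr rfl (fun h _ => h3 h), Finset.sum_const, Finset.card_univ, nsmul_eq_mul,
      ← Nat.card_eq_fintype_card, ← hg] at h2
    rw [classInner, h1, ← hg, eq_div_iff hb0, mul_assoc, mul_comm (∑ y ∈ S, _) b, h2, ← mul_assoc,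
      inv_mul_cancel₀ hg0, one_mul]
  have hexp : ∀ y, f y = ∑ χ : IrrCharacter G, a * t χ / b * (χ : G → ℂ) y := by
    intro y
    conv_lhs => rw [Char.eq_sum_classInner_smul hfc]
    simp only [Finset.sum_apply, Pi.smul_apply, smul_eq_mul, hcoef]
  refine ⟨?_, ?_, ?_⟩
  · have h1 := hexp 1
    have hf1 : f 1 = 0 := by
      simp [hf, hS, hp.out.not_dvd_one]
    rw [hf1] at h1
    have h2 : a / b * ∑ χ : IrrCharacter G, (t χ : ℂ) * (χ : G → ℂ) 1 = 0 := by
      rw [Finset.mul_sum, h1]
      exact Finset.sum_congr rfl fun χ _ => by ring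
    exact (mul_eq_zero.1 h2).resolve_left (div_ne_zero ha0 hb0)
  · have h1 := Char.classInner_eq_sum_mul_conj (b := f) hfc
    simp only [hcoef, map_div₀, map_mul, ha, hb, map_natCast, map_intCast] at h1
    rw [← ha, ← hb] at h1
    have h2 : classInner f f = g⁻¹ * S.card := by
      rw [classInner, ← hg]
      congr 1
      rw [Finset.sum_congr rfl (g := fun y => if y ∈ S then (1 : ℂ) else 0) (fun y _ => by
        simp only [hf]; split_ifs <;> simp), Finset.sum_ite_mem, Finset.univ_inter, Finset.sum_const,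
        nsmul_eq_mul, mul_one]
    rw [h2] at h1
    have h3 : a * ∑ χ : IrrCharacter G, (t χ : ℂ) ^ 2 =
        b ^ 2 / a * ∑ χ : IrrCharacter G, a * t χ / b * (a * t χ / b) := by
      rw [Finset.mul_sum, Finset.mul_sum]
      refine Finset.sum_congr rfl fun χ _ => ?_
      field_simp
    rw [h3, ← h1]
    field_simp
    linear_combination hScard
  · have hone : ∀ z ∈ genSet x,
        ∑ χ : IrrCharacter G, a * t χ / b * (g * ((χ : G → ℂ) z *
          ∑ u ∈ genSet x, (χ : G → ℂ) u) / (χ : G → ℂ) 1) = g * ((p : ℂ) - 2) := by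
      intro z hz
      have hzo := (genSet_order hx hz).1
      have h1 : ∀ χ : IrrCharacter G, g * ((χ : G → ℂ) z * ∑ u ∈ genSet x, (χ : G → ℂ) u) /
          (χ : G → ℂ) 1 = b * ∑ y ∈ K, (χ : G → ℂ) (z * y) := by
        intro χ
        rw [hKsum, Finset.sum_comm, Finset.mul_sum, Finset.mul_sum, Finset.sum_div]
        refine Finset.sum_congr rfl fun u _ => ?_
        rw [BlocksChar.sum_conj_mul χ.2 z u, hg]
        ring
      simp only [h1]
      have h2 : ∑ χ : IrrCharacter G, a * t χ / b * (b * ∑ y ∈ K, (χ : G → ℂ) (z * y)) =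
          b * ∑ y ∈ K, f (z * y) := by
        simp only [hexp, Finset.mul_sum]
        rw [Finset.sum_comm]
        exact Finset.sum_congr rfl fun y _ => Finset.sum_congr rfl fun χ _ => by ring
      rw [h2]
      set R := Finset.univ.filter fun y : G => orderOf y = p ∧ ¬ p ∣ orderOf (z * y) with hR
      have hRK : (p - 1) * R.card = K.card := card_regular_products hcyc hsol hzo
      have h3 : ∑ y ∈ K, f (z * y) = (K.card : ℂ) - R.card := by
        have hR' : R = K.filter fun y => ¬ p ∣ orderOf (z * y) := by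
          ext y; simp [hR, hK]
        have h4 : ∀ y ∈ K, f (z * y) = 1 - (if ¬ p ∣ orderOf (z * y) then (1 : ℂ) else 0) := by
          intro y hy
          obtain ⟨i, -, hij⟩ := product_facts hcyc hzo (Finset.mem_filter.1 hy).2
            (hsol z y hzo (Finset.mem_filter.1 hy).2)
          have hp2 := (hij 1).2
          rw [pow_one] at hp2
          by_cases hd : p ∣ orderOf (z * y) <;> simp [hf, hS, hd, hp2]
        rw [Finset.sum_congr rfl h4, Finset.sum_sub_distrib, Finset.sum_const, nsmul_eq_mul, mul_one,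
          hR', Finset.sum_boole]
      rw [h3]
      have hRK' : ((p : ℂ) - 1) * R.card = K.card := by
        rw [← hRK, Nat.cast_mul, Nat.cast_sub hp.out.one_le, Nat.cast_one]
      have hp1 : ((p : ℂ) - 1) ≠ 0 := sub_ne_zero.2 fun h => hp.out.one_lt.ne'
        (by exact_mod_cast h)
      apply mul_left_cancel₀ hp1
      linear_combination ((p : ℂ) - 2) * hKcard - b * hRK'
    have hsum : ∑ z ∈ genSet x, ∑ χ : IrrCharacter G, a * t χ / b * (g * ((χ : G → ℂ) z *
          ∑ u ∈ genSet x, (χ : G → ℂ) u) / (χ : G → ℂ) 1) = ((p : ℂ) - 1) * (g * ((p : ℂ) - 2)) := by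
      rw [Finset.sum_congr rfl hone, Finset.sum_const, nsmul_eq_mul, hgc]
    rw [Finset.sum_comm] at hsum
    have h5 : ∀ χ : IrrCharacter G, ∑ z ∈ genSet x, a * t χ / b * (g * ((χ : G → ℂ) z *
          ∑ u ∈ genSet x, (χ : G → ℂ) u) / (χ : G → ℂ) 1) =
        g / b * (a * ((t χ : ℂ) ^ 3 / (χ : G → ℂ) 1)) := by
      intro χ
      rw [← Finset.mul_sum, ← Finset.sum_div, ← Finset.mul_sum, ← Finset.sum_mul]
      rcases ht2 χ with h | h
      · simp [h]
      · rw [← h]; ring
    simp only [h5, ← Finset.mul_sum] at hsum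
    field_simp at hsum
    linear_combination hsum

end Cfsg.Agent.CycPairs
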