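import Mathlib
import Cfsg.Agent.CycPairs.Identities
import Cfsg.Agent.OddChar.Twist
import Cfsg.Agent.OddChar.LinChar
import Cfsg.Agent.Char.Linear

/-!
# Counting the twists of a character of a simple group with cyclic Sylow `p`-subgroup
-/

set_option autoImplicit false
set_option linter.unusedSectionVars false
set_option linter.style.haveILetI false

open scoped ComplexConjugate

namespace Cfsg.Agent.CycPairs

open Subgroup Cfsg Cfsg.Agent.OddChar

universe u

variable {G : Type u} [Group G] [Fintype G] {p : ℕ} [hp : Fact p.Prime] {x : G}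

/-- In a simple group a nontrivial element on which an irreducible character takes its degree forces
the trivial character. -/
theorem eq_trivial_of_value [IsSimpleGroup G] {g : G} (hg : g ≠ 1) (χ : IrrCharacter G)
    (h : (χ : G → ℂ) g = (χ : G → ℂ) 1) : χ = Char.trivialIrr G := by
  obtain ⟨K, hKn, hK⟩ := Char.isCharacter_exists_kernel (Char.isCharacter_of_irr χ.2)
  have hKtop : K = ⊤ := hKn.eq_bot_or_eq_top.resolve_left fun hb => hg
    (mem_bot.1 (hb ▸ (hK g).2 h))
  have hc : (χ : G → ℂ) = fun _ => (χ : G → ℂ) 1 := funext fun y => (hK y).1 (hKtop ▸ mem_top y)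
  by_contra hne
  have h0 := Char.classInner_irr_ne χ.2 (Char.trivialIrr G).2
    (fun he => hne (Subtype.ext he))
  have hval : classInner (χ : G → ℂ) (Char.trivialIrr G : G → ℂ) = (χ : G → ℂ) 1 := by
    rw [classInner]
    have : ∀ y : G, (χ : G → ℂ) y * conj ((Char.trivialIrr G : G → ℂ) y) = (χ : G → ℂ) 1 := fun y => by
      show _ * conj (1 : ℂ) = _
      rw [map_one, mul_one]; exact congrFun hc y
    rw [Finset.sum_congr rfl fun y _ => this y, Finset.sum_const, Finset.card_univ, nsmul_eq_mul,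
      ← Nat.card_eq_fintype_card, ← mul_assoc, inv_mul_cancel₀ (Nat.cast_ne_zero.2 Nat.card_pos.ne'),
      one_mul]
  rw [hval] at h0
  obtain ⟨d, hd0, hd⟩ := Char.irr_one_pos χ.2
  rw [hd] at h0
  exact hd0.ne' (Nat.cast_eq_zero.1 h0)

/-- The degree of a nontrivial character of a nonabelian simple group is at least two. -/
theorem two_le_degree [IsSimpleGroup G] (hperf : commutator G = ⊤) (χ : IrrCharacter G)
    (hχ : χ ≠ Char.trivialIrr G) {d : ℕ} (hd : (χ : G → ℂ) 1 = d) : 2 ≤ d := by
  obtain ⟨m, hm0, hm⟩ := Char.irr_one_pos χ.2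
  have hdm : d = m := Nat.cast_injective (hd.symm.trans hm)
  by_contra hlt
  have h1 : (χ : G → ℂ) 1 = 1 := by rw [hd]; norm_cast; omega
  obtain ⟨g, hg⟩ := exists_ne (1 : G)
  exact hχ (eq_trivial_of_value hg χ (by
    rw [h1]; exact Char.linear_eq_one_of_mem_commutator (Char.isCharacter_of_irr χ.2) h1
      (hperf ▸ mem_top g)))

variable (hcyc : ∀ S : Sylow p G, IsCyclic (S : Subgroup G)) (hx : orderOf x = p)
  (P : Sylow p G) (hxP : x ∈ (P : Subgroup G))

open scoped Classical in
/-- The linear characters of `P` that are faithful and occur in `χ`. -/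
noncomputable def faith (χ : G → ℂ) : Finset ((P : Subgroup G) →* ℂˣ) :=
  letI : Fintype (P : Subgroup G) := Fintype.ofFinite _
  haveI : Fintype ((P : Subgroup G) →* ℂˣ) := Fintype.ofFinite _
  Finset.univ.filter fun μ => Function.Injective μ ∧
    classInner (fun w : (P : Subgroup G) => χ w) (linFun μ) ≠ 0

include hcyc in
theorem card_faith_le (χ : IrrCharacter G) {d : ℕ} (hd : (χ : G → ℂ) 1 = d) :
    (faith P (χ : G → ℂ)).card ≤ d := by
  classical
  haveI := hcyc P
  letI : Fintype (P : Subgroup G) := Fintype.ofFinite _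
  have hch : IsCharacter (P : Subgroup G) (fun w : (P : Subgroup G) => (χ : G → ℂ) w) :=
    Char.isCharacter_restrict (Char.isCharacter_of_irr χ.2) _
  choose c hc using fun μ : (P : Subgroup G) →* ℂˣ =>
    Char.isCharacter_classInner_nat hch ⟨linFun μ, linFun_isIrr μ⟩
  have h1 := congrFun (eq_sum_linFun (W := (P : Subgroup G)) fun w => (χ : G → ℂ) w) 1
  simp only [Finset.sum_apply, Pi.smul_apply, smul_eq_mul, hc, linFun_apply, map_one, Units.val_one,
    mul_one, OneMemClass.coe_one, hd] at h1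
  have h2 : d = ∑ μ, c μ := by exact_mod_cast h1
  rw [h2]
  calc (faith P (χ : G → ℂ)).card = ∑ μ ∈ faith P (χ : G → ℂ), 1 := by simp
    _ ≤ ∑ μ ∈ faith P (χ : G → ℂ), c μ := by
        refine Finset.sum_le_sum fun μ hμ => ?_
        obtain ⟨-, hμ⟩ := (Finset.mem_filter.1 hμ).2
        refine Nat.one_le_iff_ne_zero.2 fun h => hμ ?_
        rw [hc μ, h, Nat.cast_zero]
    _ ≤ ∑ μ, c μ := Finset.sum_le_sum_of_subset (fun μ _ => Finset.mem_univ μ)

include hcyc hx hxP in
theorem faith_nonempty [IsSimpleGroup G] (χ : IrrCharacter G) (hχ : χ ≠ Char.trivialIrr G) :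
    (faith P (χ : G → ℂ)).Nonempty := by
  classical
  haveI := hcyc P
  letI : Fintype (P : Subgroup G) := Fintype.ofFinite _
  by_contra hne
  refine hχ (eq_trivial_of_value (g := x) (fun h => ?_) χ ?_)
  · rw [h, orderOf_one] at hx; exact hp.out.one_lt.ne hx
  have hf : ∀ μ : (P : Subgroup G) →* ℂˣ,
      classInner (fun w : (P : Subgroup G) => (χ : G → ℂ) w) (linFun μ) ≠ 0 →
        μ ⟨x, hxP⟩ = 1 := by
    intro μ hμ
    have hinj : ¬ Function.Injective μ := fun h =>
      hne ⟨μ, Finset.mem_filter.2 ⟨Finset.mem_univ _, h, hμ⟩⟩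
    rw [← MonoidHom.ker_eq_bot_iff] at hinj
    obtain ⟨z, hz⟩ := exists_prime_orderOf_dvd_card' (G := μ.ker) p
      (((P.2.to_subgroup μ.ker).card_eq_or_dvd).resolve_left fun h => hinj (card_eq_one.1 h))
    have hzx : (⟨x, hxP⟩ : (P : Subgroup G)) ∈ zpowers (z : (P : Subgroup G)) := by
      obtain ⟨k, hk⟩ := mem_zpowers_iff.1 (FGS4.mem_zpowers_of_commute P (hcyc P)
        (x := x) (y := ((z : (P : Subgroup G)) : G))
        (by rw [← hx]; exact pow_orderOf_eq_one x) (by rw [orderOf_coe, orderOf_coe]; exact hz) (by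
          letI : CommGroup ↥(P : Subgroup G) := IsCyclic.commGroup
          exact congrArg Subtype.val (mul_comm (⟨x, hxP⟩ : ↥(P : Subgroup G)) z)))
      exact mem_zpowers_iff.2 ⟨k, Subtype.ext (by rw [coe_zpow]; exact hk)⟩
    obtain ⟨k, hk⟩ := mem_zpowers_iff.1 hzx
    rw [← hk, map_zpow, MonoidHom.mem_ker.1 z.2, one_zpow]
  have h0 := congrFun (eq_sum_linFun (W := (P : Subgroup G)) fun w => (χ : G → ℂ) w) ⟨x, hxP⟩
  have h1 := congrFun (eq_sum_linFun (W := (P : Subgroup G)) fun w => (χ : G → ℂ) w) 1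
  simp only [Finset.sum_apply, Pi.smul_apply, smul_eq_mul] at h0 h1
  rw [h0, show (χ : G → ℂ) 1 = _ from h1]
  refine Finset.sum_congr rfl fun μ _ => ?_
  by_cases hμ : classInner (fun w : (P : Subgroup G) => (χ : G → ℂ) w) (linFun μ) = 0
  · rw [hμ, zero_mul, zero_mul]
  · rw [linFun_apply, linFun_apply, hf μ hμ, map_one]

/-- The conjugates of `x` under `N(⟨x⟩)`. -/
noncomputable def orb (x : G) : Finset G := by
  classical exact Finset.univ.filter fun o => ∃ n ∈ normalizer (zpowers x : Set G), n * x * n⁻¹ = o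

include hcyc hx hxP in
theorem card_orb_le_faith (χ : IrrCharacter G)
    (hne : (faith P (χ : G → ℂ)).Nonempty) : (orb x).card ≤ (faith P (χ : G → ℂ)).card := by
  classical
  haveI := hcyc P
  letI : Fintype (P : Subgroup G) := Fintype.ofFinite _
  obtain ⟨μ, hμ⟩ := hne
  obtain ⟨hinj, hμc⟩ := (Finset.mem_filter.1 hμ).2
  have hPC : (P : Subgroup G) ≤ centralizer ({x} : Set G) := fun q hq => by
    letI : CommGroup ↥(P : Subgroup G) := IsCyclic.commGroup
    exact mem_centralizer_singleton_iff.2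
      (congrArg Subtype.val (mul_comm (⟨q, hq⟩ : ↥(P : Subgroup G)) ⟨x, hxP⟩))
  -- each conjugate is realised inside `N(P)`
  have hreal : ∀ o ∈ orb x, ∃ n ∈ normalizer ((P : Subgroup G) : Set G), n * x * n⁻¹ = o := by
    intro o ho
    obtain ⟨n, hn, rfl⟩ : ∃ n ∈ normalizer (zpowers x : Set G), n * x * n⁻¹ = o := by
      simpa [orb] using ho
    set C := centralizer ({x} : Set G) with hC
    have hn' : ((n⁻¹ • P : Sylow p G) : Subgroup G) ≤ C := by
      intro q hq
      have h1 : n * q * n⁻¹ ∈ (P : Subgroup G) := by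
        rw [Sylow.coe_subgroup_smul, Subgroup.mem_pointwise_smul_iff_inv_smul_mem] at hq
        simpa [MulAut.smul_def, mul_assoc] using hq
      have h2 := mem_centralizer_singleton_iff.1 (hPC h1)
      obtain ⟨k, hk⟩ := mem_zpowers_iff.1 ((mem_normalizer_iff.1 hn x).1 (mem_zpowers x))
      have h3 : Commute (n * q * n⁻¹) (n * x * n⁻¹) := hk ▸ Commute.zpow_right h2 k
      exact mem_centralizer_singleton_iff.2 ((Commute.conj_iff n).1 h3)
    obtain ⟨c, hc⟩ := MulAction.exists_smul_eq C (P.subtype hPC) ((n⁻¹ • P).subtype hn')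
    refine ⟨n * c, ?_, ?_⟩
    · refine Sylow.smul_eq_iff_mem_normalizer.1 ?_
      rw [mul_smul]
      have h4 : (c : G) • P = n⁻¹ • P := by
        apply Sylow.subtype_injective (hP := ?_) (hQ := hn')
        · rw [← hc, Sylow.smul_subtype hPC]
          all_goals rfl
      rw [h4, smul_inv_smul]
    · have hcx := mem_centralizer_singleton_iff.1 c.2
      rw [mul_inv_rev, show n * (c : G) * x * ((c : G)⁻¹ * n⁻¹) = n * ((c : G) * x * (c : G)⁻¹) * n⁻¹ by
        group, hcx, mul_inv_cancel_right]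
  choose nf hnf1 hnf2 using hreal
  let cj : ∀ n ∈ normalizer ((P : Subgroup G) : Set G), (P : Subgroup G) →* (P : Subgroup G) :=
    fun n hn => ((MulAut.conj n).toMonoidHom.comp (P : Subgroup G).subtype).codRestrict _
      (fun z => (mem_normalizer_iff.1 hn z).1 z.2)
  refine le_trans (le_of_eq (Finset.card_attach).symm)
    (Finset.card_le_card_of_injOn (fun o => μ.comp (cj _ (hnf1 o.1 o.2))) ?_ ?_)
  · intro o _
    set n := nf o.1 o.2
    have hn := hnf1 o.1 o.2
    have hbij : Function.Bijective (cj n hn) :=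
      Finite.injective_iff_bijective.1 fun a b h => Subtype.ext (by
        have := congrArg Subtype.val h
        simpa [cj] using this)
    refine Finset.mem_filter.2 ⟨Finset.mem_univ _, hinj.comp hbij.1, ?_⟩
    convert hμc using 1
    simp only [classInner]
    congr 1
    refine Fintype.sum_equiv (Equiv.ofBijective _ hbij) _ _ fun z => ?_
    simp only [Equiv.ofBijective_apply, linFun_apply, MonoidHom.comp_apply]
    congr 1
    show (χ : G → ℂ) z = (χ : G → ℂ) (n * z * n⁻¹)
    exact (Char.irr_isClassFunction χ.2 _ _).symm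
  · intro o _ o' _ h
    have := hinj (DFunLike.congr_fun h ⟨x, hxP⟩)
    have h2 : nf o.1 o.2 * x * (nf o.1 o.2)⁻¹ = nf o'.1 o'.2 * x * (nf o'.1 o'.2)⁻¹ := by
      have h3 := congrArg Subtype.val this
      simpa [cj] using h3
    rw [hnf2, hnf2] at h2
    exact Subtype.ext h2

include hcyc hx hxP in
/-- Twists: `φ(|P|) ≤ d · #Y` for the set `Y` of characters sharing degree and section value. -/
theorem totient_le {W : Subgroup G}
    (hW : ∀ w, w ∈ W ↔ w ∈ centralizer ({x} : Set G) ∧ ¬ p ∣ orderOf w)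
    (t : IrrCharacter G → ℤ) [DecidablePred (· ∈ W)]
    (ht : ∀ χ : IrrCharacter G, ∑ u ∈ genSet x, ∑ c ∈ Finset.univ.filter (fun c => c ∈ W),
      (χ : G → ℂ) (u * c) = (Nat.card W : ℂ) * t χ)
    [IsSimpleGroup G] (χ : IrrCharacter G) (hχ : χ ≠ Char.trivialIrr G) {d : ℕ}
    (hd : (χ : G → ℂ) 1 = d) [DecidableEq (IrrCharacter G)] (Y : Finset (IrrCharacter G))
    (hY : ∀ ψ : IrrCharacter G, ψ ≠ Char.trivialIrr G → t ψ = t χ → (ψ : G → ℂ) 1 = d → ψ ∈ Y)
    (hY' : ∀ ψ ∈ Y, (ψ : G → ℂ) 1 = d) :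
    (Nat.card (P : Subgroup G)).totient ≤ d * Y.card := by
  classical
  haveI := hcyc P
  letI : Fintype (P : Subgroup G) := Fintype.ofFinite _
  obtain ⟨μ0, hμ0⟩ := faith_nonempty hcyc hx P hxP χ hχ
  obtain ⟨hinj, hμc⟩ := (Finset.mem_filter.1 hμ0).2
  obtain ⟨u0, hu0⟩ := IsCyclic.exists_generator (α := (P : Subgroup G))
  have hu0o : orderOf u0 = Nat.card (P : Subgroup G) := orderOf_eq_card_of_forall_mem_zpowers hu0
  set q := Nat.card (P : Subgroup G) with hq
  haveI : NeZero q := ⟨Nat.card_pos.ne'⟩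
  -- for each unit a twist
  have hex : ∀ k : (ZMod q)ˣ, ∃ (j : ℕ), j.Coprime (Nat.card G) ∧ (j : ZMod q) = (k : ZMod q) := by
    intro k
    obtain ⟨u, hu⟩ := ZMod.unitsMap_surjective (Subgroup.card_subgroup_dvd_card (P : Subgroup G)) k
    haveI : NeZero (Nat.card G) := ⟨Nat.card_pos.ne'⟩
    refine ⟨(u : ZMod (Nat.card G)).val, ZMod.val_coe_unit_coprime u, ?_⟩
    rw [← hu, ZMod.unitsMap_val, ZMod.natCast_val]
  choose jf hj1 hj2 using hex
  let tw : (ZMod q)ˣ → IrrCharacter G := fun k =>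
    ⟨fun g => (χ : G → ℂ) (g ^ jf k), irr_twist χ.2 (hj1 k)⟩
  let mu : (ZMod q)ˣ → ((P : Subgroup G) →* ℂˣ) := fun k => μ0 ^ jf k
  have hmem : ∀ k, mu k ∈ faith P (tw k : G → ℂ) := by
    intro k
    have hjP : (jf k).Coprime (Nat.card (P : Subgroup G)) :=
      (hj1 k).coprime_dvd_right (Subgroup.card_subgroup_dvd_card _)
    refine Finset.mem_filter.2 ⟨Finset.mem_univ _, fun a b h => ?_, ?_⟩
    · simp only [mu, MonoidHom.pow_apply, ← map_pow] at h
      exact (powCoprime hjP.symm).injective (hinj h)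
    · convert hμc using 1
      simp only [classInner]
      congr 1
      refine Fintype.sum_equiv (powCoprime hjP.symm) _ _ fun z => ?_
      simp only [linFun_apply, tw, mu, powCoprime_apply, MonoidHom.pow_apply, SubgroupClass.coe_pow,
        map_pow]
  have hYmem : ∀ k, tw k ∈ Y := by
    intro k
    refine hY _ (fun h => ?_) ?_ (by simp [tw, hd])
    · refine hχ (eq_trivial_of_value (g := x) (fun h1 => ?_) χ ?_)
      · rw [h1, orderOf_one] at hx; exact hp.out.one_lt.ne hx
      · have h2 : ∀ g : G, (χ : G → ℂ) (g ^ jf k) = 1 := fun g => congrFun (congrArg Subtype.val h) g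
        have h1 := h2 1
        rw [one_pow] at h1
        obtain ⟨m, hm⟩ := exists_pow_eq_self_of_coprime (x := x) (n := jf k)
          ((hj1 k).coprime_dvd_right (orderOf_dvd_natCard x))
        rw [h1, ← hm, ← pow_mul, mul_comm, pow_mul]
        exact h2 _
    · have hsum : ∑ u ∈ genSet x, ∑ c ∈ Finset.univ.filter (fun c => c ∈ W), (tw k : G → ℂ) (u * c) =
          ∑ u ∈ genSet x, ∑ c ∈ Finset.univ.filter (fun c => c ∈ W), (χ : G → ℂ) (u * c) := by
        rw [← Finset.sum_product', ← Finset.sum_product']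
        have hcomm : ∀ uc ∈ genSet x ×ˢ Finset.univ.filter (fun c => c ∈ W), Commute uc.1 uc.2 := by
          intro uc huc
          obtain ⟨hu, hc⟩ := Finset.mem_product.1 huc
          have := ((hW _).1 (Finset.mem_filter.1 hc).2).1
          rw [← centralizer_genSet hx hu, mem_centralizer_singleton_iff] at this
          exact this.symm
        refine Finset.sum_bij (fun uc _ => (uc.1 ^ jf k, uc.2 ^ jf k)) ?_ ?_ ?_ ?_
        · intro uc huc
          obtain ⟨hu, hc⟩ := Finset.mem_product.1 huc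
          refine Finset.mem_product.2 ⟨mem_genSet.2 ⟨pow_mem (mem_genSet.1 hu).1 _, fun h1 => ?_⟩,
            Finset.mem_filter.2 ⟨Finset.mem_univ _, pow_mem (Finset.mem_filter.1 hc).2 _⟩⟩
          exact (mem_genSet.1 hu).2 ((powCoprime (hj1 k).symm).injective
            (by simpa using h1))
        · intro a _ b _ h
          simp only [Prod.mk.injEq] at h
          exact Prod.ext ((powCoprime (hj1 k).symm).injective h.1)
            ((powCoprime (hj1 k).symm).injective h.2)
        · intro uc huc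
          obtain ⟨hu, hc⟩ := Finset.mem_product.1 huc
          obtain ⟨m, hm⟩ := exists_pow_eq_self_of_coprime (x := uc.1) (n := jf k)
            ((hj1 k).coprime_dvd_right (orderOf_dvd_natCard _))
          obtain ⟨l, hl⟩ := exists_pow_eq_self_of_coprime (x := uc.2) (n := jf k)
            ((hj1 k).coprime_dvd_right (orderOf_dvd_natCard _))
          rw [← pow_mul, mul_comm, pow_mul] at hm hl
          refine ⟨(uc.1 ^ m, uc.2 ^ l), Finset.mem_product.2 ⟨mem_genSet.2
            ⟨pow_mem (mem_genSet.1 hu).1 _, fun h1 => (mem_genSet.1 hu).2 ?_⟩,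
            Finset.mem_filter.2 ⟨Finset.mem_univ _, pow_mem (Finset.mem_filter.1 hc).2 _⟩⟩,
            Prod.ext hm hl⟩
          have h1' : uc.1 ^ m = 1 := h1
          rw [← hm, h1', one_pow]
        · intro uc huc
          show (χ : G → ℂ) ((uc.1 * uc.2) ^ jf k) = _
          rw [(hcomm uc huc).mul_pow]
      rw [ht, ht] at hsum
      exact_mod_cast mul_left_cancel₀ (Nat.cast_ne_zero.2 Nat.card_pos.ne') hsum
  have hinjmu : Function.Injective mu := by
    intro k k' h
    have h1 : μ0 u0 ^ jf k = μ0 u0 ^ jf k' := DFunLike.congr_fun h u0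
    rw [pow_eq_pow_iff_modEq, orderOf_injective μ0 hinj, hu0o, ← ZMod.natCast_eq_natCast_iff,
      hj2, hj2] at h1
    exact Units.ext h1
  calc (Nat.card (P : Subgroup G)).totient = (Finset.univ.image mu).card := by
        rw [Finset.card_image_of_injective _ hinjmu, Finset.card_univ, ZMod.card_units_eq_totient]
    _ ≤ (Y.biUnion fun ψ => faith P (ψ : G → ℂ)).card := Finset.card_le_card fun m hm => by
        obtain ⟨k, -, rfl⟩ := Finset.mem_image.1 hm
        exact Finset.mem_biUnion.2 ⟨tw k, hYmem k, hmem k⟩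
    _ ≤ ∑ ψ ∈ Y, (faith P (ψ : G → ℂ)).card := Finset.card_biUnion_le
    _ ≤ ∑ _ψ ∈ Y, d := Finset.sum_le_sum fun ψ hψ => card_faith_le hcyc P ψ (hY' ψ hψ)
    _ = d * Y.card := by rw [Finset.sum_const, smul_eq_mul, mul_comm]

end Cfsg.Agent.CycPairs
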